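import Mathlib
import Cfsg.Agent.Lib.J2.VA8Spec.Data

/-! generated by tools/cgt -/

set_option autoImplicit false
set_option maxRecDepth 100000
set_option Elab.async false

namespace CfsgLib.J2.VA8Spec

open CfsgLib.Comput

theorem c1 : splitOK 64 6 VA8.W VA8.L0.B e0 [] (idTab 64 6) [22, 19, 15, 11, 7] 3
    [(0, 0, 0xffffffff00000000ffff0000ffff0000ff00ff00ff00ff00f0f0f0f0f0f0f0f0ccccccccccccccccaaaaaaaaaaaaaaaa), (1, 1, 0xffffffff00000000ffff0000ffff0000ff00ff00ff00ff00f0f0f0f0f0f0f0f0cccccccccccccccc5555555555555555), (0x1070801, 60, 0x9669699669969669699696696996966969966996966996696699996699666699c33c3cc33cc3c33c9696696969699696)] = true := by decide +kernel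
theorem c2 : nodeOK 64 6 VA8.W VA8.L0.B leaf e1 ch2 [(0, e0.1)] 0xffffffff00000000ffff0000ffff0000ff00ff00ff00ff00f0f0f0f0f0f0f0f0ccccccccccccccccaaaaaaaaaaaaaaaa [22, 19, 15, 11] 2
    (.cons 0 [22, 19, 15] 2 (.cons 0 [22, 19] 2 (.cons 0 [22] 2 (.cons 0 [] 0 F5 (.cons 19 [] 0 F5 .nil)) (.cons 15 [] 0 F4 .nil)) (.cons 11 [22] 2 (.cons 0 [] 0 F4 (.cons 16 [22] 2 (.cons 0 [] 0 F5 (.cons 18 [] 0 F5 .nil)) (.cons 0xf16 [22] 2 (.cons 0 [] 0 F5 (.cons 0x1315 [] 0 F5 .nil)) .nil))) (.cons 12 [22] 2 (.cons 0 [22] 2 (.cons 0 [] 0 F5 (.cons 0x1315 [] 0 F5 .nil)) (.cons 15 [] 0 F4 (.cons 16 [22] 2 (.cons 0 [] 0 F5 (.cons 19 [] 0 F5 .nil)) .nil))) (.cons 0xb0d [22, 19] 3 (.cons 0 [22] 2 (.cons 0 [] 0 F5 (.cons 18 [] 0 F5 .nil)) (.cons 0xf16 [22] 2 (.cons 0 [] 0 F5 (.cons 19 [] 0 F5 .nil)) .nil)) .nil))))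 (.cons 7 [22, 19] 2 (.cons 0 [22, 19] 3 (.cons 0 [22] 2 (.cons 0 [] 0 F5 (.cons 19 [] 0 F5 .nil)) (.cons 14 [22] 2 (.cons 0 [] 0 F5 (.cons 19 [] 0 F5 .nil)) .nil)) (.cons 11 [22, 19] 2 (.cons 0 [] 0 F4 (.cons 16 [22] 2 (.cons 0 [] 0 F5 (.cons 18 [] 0 F5 .nil)) .nil)) (.cons 10 [19] 2 (.cons 0 [] 0 F4 (.cons 15 [] 0 F4 (.cons 14 [] 0 F4 .nil))) (.cons 12 [22, 19] 3 (.cons 0 [22] 2 (.cons 0 [] 0 F5 (.cons 0x1315 [] 0 F5 .nil)) (.cons 16 [22] 2 (.cons 0 [] 0 F5 (.cons 19 [] 0 F5 .nil)) .nil)) (.cons 13 [19] 2 (.cons 0 [] 0 F4 (.cons 14 [] 0 F4 (.cons 16 [] 0 F4 .nil))) (.cons 0xb0d [22, 19] 2 (.cons 0 [22] 2 (.cons 0 [] 0 F5 (.cons 18 [] 0 F5 .nil)) (.cons 15 [] 0 F4 .nil)) .nil)))))) (.cons 0x708 [0x1513, 0xe15] 2 (.cons 0 [0x1513] 2 (.cons 0 [] 0 F4 (.cons 15 [] 0 F4 (.cons 14 [] 0 F4 .nil)))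 (.cons 11 [0x1513] 2 (.cons 0 [] 0 F4 (.cons 16 [] 0 F4 (.cons 0xf16 [] 0 F4 .nil))) (.cons 10 [] 0 F3 (.cons 12 [0x1513] 2 (.cons 0 [] 0 F4 (.cons 15 [] 0 F4 (.cons 16 [] 0 F4 .nil))) (.cons 13 [] 0 F3 (.cons 0xb0d [0x1513] 2 (.cons 0 [] 0 F4 (.cons 15 [] 0 F4 (.cons 0xf16 [] 0 F4 .nil))) .nil)))))) .nil))) = true := by decide +kernel
theorem c3 : nodeOK 64 6 VA8.W VA8.L0.B leaf e1 ch2 [(1, e0.1)] 0xffffffff00000000ffff0000ffff0000ff00ff00ff00ff00f0f0f0f0f0f0f0f0cccccccccccccccc5555555555555555 [22, 19, 15, 11] 2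
    (.cons 0 [22, 19, 15] 2 (.cons 0 [22, 19] 2 (.cons 0 [22] 2 (.cons 0 [] 0 F5 (.cons 19 [] 0 F5 .nil)) (.cons 15 [] 0 F4 .nil)) (.cons 11 [22] 2 (.cons 0 [] 0 F4 (.cons 16 [22] 2 (.cons 0 [] 0 F5 (.cons 18 [] 0 F5 .nil)) (.cons 0xf16 [22] 2 (.cons 0 [] 0 F5 (.cons 0x1315 [] 0 F5 .nil)) .nil))) (.cons 12 [22] 2 (.cons 0 [22] 2 (.cons 0 [] 0 F5 (.cons 0x1315 [] 0 F5 .nil)) (.cons 15 [] 0 F4 (.cons 16 [22] 2 (.cons 0 [] 0 F5 (.cons 19 [] 0 F5 .nil)) .nil))) (.cons 0xb0d [22, 19] 3 (.cons 0 [22] 2 (.cons 0 [] 0 F5 (.cons 18 [] 0 F5 .nil)) (.cons 0xf16 [22] 2 (.cons 0 [] 0 F5 (.cons 19 [] 0 F5 .nil)) .nil)) .nil)))) (.cons 7 [22, 19] 2 (.cons 0 [22, 19] 3 (.cons 0 [22] 2 (.cons 0 [] 0 F5 (.cons 19 [] 0 F5 .nil)) (.cons 14 [22] 2 (.cons 0 [] 0 F5 (.cons 19 [] 0 F5 .nil)) .nil)) (.cons 11 [22, 19]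 2 (.cons 0 [] 0 F4 (.cons 16 [22] 2 (.cons 0 [] 0 F5 (.cons 18 [] 0 F5 .nil)) .nil)) (.cons 10 [19] 2 (.cons 0 [] 0 F4 (.cons 15 [] 0 F4 (.cons 14 [] 0 F4 .nil))) (.cons 12 [22, 19] 3 (.cons 0 [22] 2 (.cons 0 [] 0 F5 (.cons 0x1315 [] 0 F5 .nil)) (.cons 16 [22] 2 (.cons 0 [] 0 F5 (.cons 19 [] 0 F5 .nil)) .nil)) (.cons 13 [19] 2 (.cons 0 [] 0 F4 (.cons 14 [] 0 F4 (.cons 16 [] 0 F4 .nil))) (.cons 0xb0d [22, 19] 2 (.cons 0 [22] 2 (.cons 0 [] 0 F5 (.cons 18 [] 0 F5 .nil)) (.cons 15 [] 0 F4 .nil)) .nil)))))) (.cons 0x708 [17, 0x1513] 2 (.cons 0 [0x1513] 2 (.cons 0 [] 0 F4 (.cons 15 [] 0 F4 (.cons 14 [] 0 F4 .nil))) (.cons 11 [0x1513] 2 (.cons 0 [] 0 F4 (.cons 16 [] 0 F4 (.cons 0xf16 [] 0 F4 .nil))) (.cons 10 [] 0 F3 (.cons 12 [0x1513] 2 (.cons 0 [] 0 F4 (.cons 15 [] 0 F4 (.cons 16 [] 0 F4 .nil)))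 (.cons 13 [] 0 F3 (.cons 0xb0d [0x1513] 2 (.cons 0 [] 0 F4 (.cons 15 [] 0 F4 (.cons 0xf16 [] 0 F4 .nil))) .nil)))))) .nil))) = true := by decide +kernel
theorem c4 : splitOK 64 6 VA8.W VA8.L0.B e1 [(60, e0.1)] 0x9669699669969669699696696996966969966996966996696699996699666699c33c3cc33cc3c33c9696696969699696 [0x1513, 0x111513, 0x160b0e, 0x160c12] 2
    [(0, 1, 0x9669699669969669699696696996966969966996966996696699996699666699c33c3cc33cc3c33c9696696969699696), (7, 58, 0xff00ff00ff00ffff00ff0000ff00ffff0000ffff0000ff696996969696696955aa55aa55aa55aa0ff00ff00ff00ff0), (6, 63, 0xf0f0f0f0f0f0f0ff0f0f0f00f0f0f0ff0f00f0ff0f00f0ff00ff00ff00ff00f5a5a5a5a5a5a5a5a9966669966999966), (0x708, 28, 0x5aa5a55aa55a5aa53333333333333333cccccccc33333333c3c3c3c3c3c3c3c333cc33cc33cc33cc3333cccc3333cccc), (0x906, 61,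 0xffffffff0000ffff0000ffff00ff00ff00ff00ff0f0f0f0f0f0f0f0fccccccccccccccccaaaaaaaaaaaaaaaa), (0x70b07, 48, 0xcccccccc33333333c3c3c3c3c3c3c3c35aa5a55aa55a5aa5999999999999999933cc33cc33cc33cccccccccccccccccc)] = true := by decide +kernel
theorem c5 : nodeOK 64 6 VA8.W VA8.L0.B leaf e2 ch3 [(1, e1.1), (60, e0.1)] 0x9669699669969669699696696996966969966996966996696699996699666699c33c3cc33cc3c33c9696696969699696 [17, 0x1513] 2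
    (.cons 0 [0x1513] 2 (.cons 0 [] 0 F4 (.cons 15 [] 0 F4 (.cons 14 [] 0 F4 .nil))) (.cons 11 [0x1513] 2 (.cons 0 [] 0 F4 (.cons 16 [] 0 F4 (.cons 0xf16 [] 0 F4 .nil))) (.cons 10 [] 0 F3 (.cons 12 [0x1513] 2 (.cons 0 [] 0 F4 (.cons 15 [] 0 F4 (.cons 16 [] 0 F4 .nil))) (.cons 13 [] 0 F3 (.cons 0xb0d [0x1513] 2 (.cons 0 [] 0 F4 (.cons 15 [] 0 F4 (.cons 0xf16 [] 0 F4 .nil))) .nil)))))) = true := by decide +kernel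
theorem c6 : nodeOK 64 6 VA8.W VA8.L0.B leaf e2 ch3 [(58, e1.1), (60, e0.1)] 0xff00ff00ff00ffff00ff0000ff00ffff0000ffff0000ff696996969696696955aa55aa55aa55aa0ff00ff00ff00ff0 [0x1513] 2
    (.cons 0 [0x1513] 2 (.cons 0 [] 0 F4 (.cons 15 [] 0 F4 (.cons 14 [] 0 F4 .nil))) (.cons 11 [0x1513] 2 (.cons 0 [] 0 F4 (.cons 16 [] 0 F4 (.cons 0xf16 [] 0 F4 .nil))) (.cons 10 [] 0 F3 (.cons 12 [0x1513] 2 (.cons 0 [] 0 F4 (.cons 15 [] 0 F4 (.cons 16 [] 0 F4 .nil))) (.cons 13 [] 0 F3 (.cons 0xb0f [0x1513] 2 (.cons 0 [] 0 F4 (.cons 15 [] 0 F4 (.cons 16 [] 0 F4 .nil))) (.cons 0xb0d [0x1513] 2 (.cons 0 [] 0 F4 (.cons 15 [] 0 F4 (.cons 0xf16 [] 0 F4 .nil))) (.cons 0xa0a [0x1513] 2 (.cons 0 [] 0 F4 (.cons 15 [] 0 F4 (.cons 0xf16 [] 0 F4 .nil))) .nil)))))))) = true := by decide +kernel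
theorem c7 : nodeOK 64 6 VA8.W VA8.L0.B leaf e2 ch3 [(63, e1.1), (60, e0.1)] 0xf0f0f0f0f0f0f0ff0f0f0f00f0f0f0ff0f00f0ff0f00f0ff00ff00ff00ff00f5a5a5a5a5a5a5a5a9966669966999966 [17, 0x1513] 2
    (.cons 0 [0x1513] 2 (.cons 0 [] 0 F4 (.cons 15 [] 0 F4 (.cons 14 [] 0 F4 .nil))) (.cons 11 [0x1513] 2 (.cons 0 [] 0 F4 (.cons 16 [] 0 F4 (.cons 0xf16 [] 0 F4 .nil))) (.cons 12 [0x1513] 2 (.cons 0 [] 0 F4 (.cons 15 [] 0 F4 (.cons 16 [] 0 F4 .nil))) (.cons 0xb0f [0x1513] 2 (.cons 0 [] 0 F4 (.cons 15 [] 0 F4 (.cons 16 [] 0 F4 .nil))) (.cons 0xb0d [0x1513] 2 (.cons 0 [] 0 F4 (.cons 15 [] 0 F4 (.cons 0xf16 [] 0 F4 .nil))) (.cons 0xa0a [0x1513] 2 (.cons 0 [] 0 F4 (.cons 15 [] 0 F4 (.cons 0xf16 [] 0 F4 .nil))) .nil)))))) = true := by decide +kernel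
theorem c8 : nodeOK 64 6 VA8.W VA8.L0.B leaf e2 ch3 [(28, e1.1), (60, e0.1)] 0x5aa5a55aa55a5aa53333333333333333cccccccc33333333c3c3c3c3c3c3c3c333cc33cc33cc33cc3333cccc3333cccc [17] 2
    (.cons 0 [] 0 F3 (.cons 11 [] 0 F3 (.cons 10 [] 0 F3 (.cons 12 [] 0 F3 (.cons 13 [] 0 F3 (.cons 0xb13 [] 0 F3 (.cons 0xb0b [] 0 F3 (.cons 0xb0d [] 0 F3 .nil)))))))) = true := by decide +kernel
theorem c9 : nodeOK 64 6 VA8.W VA8.L0.B leaf e2 ch3 [(61, e1.1), (60, e0.1)] 0xffffffff0000ffff0000ffff00ff00ff00ff00ff0f0f0f0f0f0f0f0fccccccccccccccccaaaaaaaaaaaaaaaa [17, 0x1513] 2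
    (.cons 0 [0x1513] 2 (.cons 0 [] 0 F4 (.cons 15 [] 0 F4 (.cons 0xf16 [] 0 F4 .nil))) (.cons 11 [] 0 F3 (.cons 12 [] 0 F3 (.cons 0xb12 [0x1513] 2 (.cons 0 [] 0 F4 (.cons 16 [] 0 F4 (.cons 0xf16 [] 0 F4 .nil))) (.cons 0xb0d [0x1513] 2 (.cons 0 [] 0 F4 (.cons 15 [] 0 F4 (.cons 0xf16 [] 0 F4 .nil))) (.cons 0xc12 [0x1513] 2 (.cons 0 [] 0 F4 (.cons 15 [] 0 F4 (.cons 16 [] 0 F4 .nil))) .nil)))))) = true := by decide +kernel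
theorem c10 : nodeOK 64 6 VA8.W VA8.L0.B leaf e2 ch3 [(48, e1.1), (60, e0.1)] 0xcccccccc33333333c3c3c3c3c3c3c3c35aa5a55aa55a5aa5999999999999999933cc33cc33cc33cccccccccccccccccc [0xf12] 1
    (.cons 0 [] 0 F3 (.cons 11 [] 0 F3 (.cons 10 [] 0 F3 (.cons 0xb13 [] 0 F3 (.cons 0xb12 [] 0 F3 (.cons 0xb0f [] 0 F3 .nil)))))) = true := by decide +kernel

end CfsgLib.J2.VA8Spec
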